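set_option autoImplicit false
namespace Cfsg.Agent.Lib.Helper6.TCD.O733a
noncomputable def P1 (i : Nat) : Nat := Nat.land (Nat.shiftRight 0x233c668cb17e30c608db1b235c5e8bb17234c688d519231c628b716a2cc4688b11226c4f89d14a28c508a914e2ac2884f09a24c4888f1622bc5683f07a0ec2f8630c20b4158290ea1cc3886f0da1ac348670ca1fc3e8810ba16c2c8570aa14c4c897129f7bee7daf99f2be488710a20c1c837069fe3fe7fb0f61e43b7f2fedfd3d77acf55e8bd079f02a04c0880f01a02c04807009d9bb27630620bc1982504609bf87eefd9fabf47e6e79ceb9c84b09211ba4746e89c939172108a10c207c6f89f0be07bef79eebdc7b6ed1db3b582103e073ab75aeb206c0c816df5be37b6eedd9bab716e0dbde2bc4786f09e0bc077eef9deb596b0d5ddcbb876ef65ec3da803001ffb5069ed39e9bd27a8ea9d4ba874ee99d2bec7d6fa99c33766cfc9f8bf0736e69ccb9872ee599db3a672fa5f43e771ee39c6b8c716e29c4b8870ee19c2b84706e09c0b11620c3de73cd798d15a3b46796f29e4b48694d25e43c778cbf17dafa610c1d83302602c017fafe5fad0da13446bed79aeb5c6b6d69de3bb774b85702df5b6b696cbb075eeb96aad45a6dcdb93746f2de1bd3606c4d8561ac2582cf9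9eb3c72ae51c9ba1740e7d9ab34666cc998b3065ecb996aba572ae15bab656aa7d4f29d646c8990b2063ec798eb1c636c698cb1862ec598ab14626c49c037f6fca1d43285508a0d4136b6d4da5682d25a2da1b3b666cad91b1b6e6dadb13626b4d49a5342674ea9d139a6f4dc9b562ac458cba974ae8594b3165a574ac955ab3556a89452824f6a6d49a8a4b494925a6b4c696c1181b0559eb3966ae65cab9d1ca3846ebad76aec682d019fa3045e8b95eabc576cb195b2a652ca193a2744c89558ab055eab956aac556aa954aa854ea9952aa45468a914a2864cc959220f41c8350620b414a594aa94526a4948a9051ea3946a8c516a2944a8861cc358630b614c2540a804fe7d0f99f23e27c0f79ee3da7b179af25e290d22a445e0bbd772f95f0bdd7b2f55e877cef1dd3b876ced1e23c2781192314668e91e23b5c8b8d711ca3927216f2dd5b8710e19c25b0b5d6b24848e91938a704e490920a4047e8f91ea594b096964ac858e6bcd71ad4b69752e2c057eaf8d31a5348a8950aa0568acd5919d33866ccd1993308790ea1c4368690ca1842e8590aa14426680cf99e538a6d4d299530a5d04a0840e608c09802fe5f8be97c2f65e8fe9fc3f67e8fc9f83ee7d8faa7e4fa9f13da7a4f29e13ba762da5b0b596a2d25a0b39662ca9812fa5e4cc995322634c49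84af15d2b856cad15935069cd49b03646c4a91512a095129a5238e718e2a4e49a930e09c037e6f8de9bc3766e8dc9b836e6d8da9b436673ce71d046c8d51a1342664c8e89d33a48b51622b2564a894a12422841122234448851021f32e658ca92824e4989292424648890920316628c498830e618c298430681902a0440680900a003fe7f8899122224408790e21a430859702de5b8f59ea3d27a0f39e63ca790f1904206408809001fe764ec1d73ac754ea0f81ee3d89a93726c734e61cb29e538a694c296528a494828e518a2944286508a094027e4f89e93c2764e89c9382a854caa9ac3566a8670cd1984b89692c346688d0994326648c899031e638c698c19031c630c518830c610c11804588a9142f25e0bb9762ea5d0b99722e22e45c0b716c2d45a1642c6588b09602be2b4560ab1f63e87c9582ae558768ef1dc29c530a51e83cc7a8a114027c748e81ce398728e41c6388708e01be3786e8dc1b63686c8d81ae3586a8d41a6348520a31444c49812f1963286491f23c4748e11b2344648c117106208408800fe1f88510921041c831050ee1d83a8b015e2b87f0fd1f82a8548a81e43c4780d11a033c760eb1d42784e89c1362684c89812e2584a894126248488900dc1b43608c1162283586a0d22184288417e2f85e8bc1762e8298520a21e83c8781662c8588740e61c8388700de23c4708d112220438680ce198328640c6128248480be1782e84708c114220430841582a8540fa1f03d85009e1382684c096188308600b816c2d0590b015c1782e05a0f81e83c0580ac1502905009c1a8340660c8188300821001f83b0740e41c03706c0680c81802e0580a82003e0780e81c036098128240460881080e01a0300881001e050098120160280480800e0180280400600800800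 (Nat.mul 11 (Nat.land i 2047))) 2047
end Cfsg.Agent.Lib.Helper6.TCD.O733a
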