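set_option autoImplicit false
namespace Cfsg.Agent.Lib.Helper6.TCD.O733a
noncomputable def P2 (i : Nat) : Nat := Nat.land (Nat.shiftRight 0x236c6c8d71aa34c688b716a2cc588af15a294518a113225c4a8cf19a32c648c718a2ac548a71863045f8690ce1945e8bb17224c4888f0a213c2688710a20c138250461ec3c8770ea1cc3886f0da1ac4f89d13600c007ff0ba16c2c8570aa14c4688b11212c2484708a10c207c0f7def3ec7d6fa9ea3d37a4f8df13e18810fe1f41081f03a06c0c81702a04c0880f01a02bbc776eea18c3085eec1d7bae766ec9d8bf87eefd9fabf47e6fc9f8bf0730e5dcb41c837069f4be87cee31c5b8a82d0560a41f83d075cab94726dd1b9b7271ee39c6c1983105dc4b8870edb9b6b6c796f29e4bc878ef19b13616c0f09e0bc077eef9dec04807009ab3556a8d4da93517f6fe9fcbfe7faff1a834f69cd05a033f74ee99d2ba4746e89d0ba073ecc998b30736e69ccbef7dcfb5eebdc7b6c698cb187aef59eabe67caf91e8bd079ecb195b2a622c4187b806fedf985b0a612de9bcb7863ac718dbda7b2f618bb1662af39e6bcc5f2be17baf65eabd1b2b646c6f15e23c35dabb175ae45c6b89acb586aeee5dc3b776ced5da3ad758eada6b4c696b6d6d2d959eb3966b44686d09d53a975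0b015fabe676ce99caa854ea999ab34666e79ceb9c65ecb996b8670ae114fa9e53aad159ab2532a614bb2063ec79bbb766eae49c8b906e2dc1b7a8750ca15c1b82702c3986b0c6fadf1bda7b4f49e582b046069e13ba7651aa3145a84506a09b5b6a6d2da1b3b664cc995322634c4985afb5e6ba9752e25b5ceb9972b5c6b6d6970ae05beb796eadc694d25a42d85aeb592424748c90920a4068ed19a2a3f47c8f564ac858eb1962ac4586b0960b3e67acf116a2c456ae95cab844e89912b2664ac9110a2043eab956aac556aa954b3866ecd952aa454683d0720d652ca193a2444688991b2264280d01201526a4948a003fe7f97fafe5fa7d0f99f2628c4d892fc5f6be8f59ea3d29f93ea7c610c1d83302602c00f41e73cc9c938a703ca790f19f13e07bcf71ed3d8bcd792f15e0bbd771d63aa751752e95d09692ca584ae9592aa544a6948e39c638a93926a4c382700dfad55a8b4cdd9ba372b4968ad0598b2d651b836e6d8da9b43668d91aa344668c918a3045e8b95eabc576674ce19b56ead95aa9c536a6958ab055e644c818f4368690c98e31a6310aa14426608c0980544a855020c416828bc9782ee650c999252ca554a29051ea38bb1752e87e8fc9f82e65c8b8a8a512a213626b4d49a534267502a013fa754e89cd37a6e4da584b015f2d45a4b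41672cc594ec9d83ae9812fa5e3a6748e89d039e738e69cc39653ca714d4a29412794929051d25a4a4926f8de9bc48a91121a3c4768e91ca3846e4f49e13b2744e49c1ac3566a89712d258698d29a4346688d092824e49915229450668cc99823e4788ea0640a8110f21d4388610ba1623846c8d18830e6188c91822e84908a102fe5f8be97c2f65e904a0840e7f4fe1fb3ee7d8fa90720c414b696c2d677cef1dd3b876ced1642c6588f11e13c03ec7d0f92024007f9582ae5587a8f41e63a4740e7394724e414c296528e21c3384518a2944286508a094027e4f8d91b13606bcd71ad1a2340678d41a6348760eb1d46a4d41a7196328649a033e678929242464889092032e658ca98b314624c29843062f05d8ba2264488891021e4388690c216428849082e05bcb70b015e2b8ad95a2b23f87e8fc2bc574ae0aa1522a0aa9542a63c8788f014828c511312604bca91512a0398728e41c6388708e01be3786e8dc1b63686c8d811e238469342664c89b93626a224440872564a8948c818e318628c4186308608c017e2f85e91622a4503d0790f02d85a8b41662c8589042064083a0730e43e07b8f60e21c0378ef1dc3b43586a0d22784e89c1362684c89812e258310610c0248488901ae3586a85c0b6168670cd1981642c0570ac1542a0800fe1f83e87c0f62e45c0b70a013c270ad1582ac538a614a1b83686c1422804f8410800fc328640c62544a0930760e81c88c1162284308510820c4108106a0d0198770ec1d42684c0961282484808e11822844086108340670cc098128240be1782e83806e0d8298520a20c81883005e0b81682c0560a80e81c0360f81e83c0460881082003e0781482804e0680c818022040078140260480b81602a020038060160280480e01a0300280400600800800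 (Nat.mul 11 (Nat.land i 2047))) 2047
end Cfsg.Agent.Lib.Helper6.TCD.O733a
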