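set_option autoImplicit false
namespace Cfsg.Agent.Lib.Helper6.TCD.O733a
noncomputable def P3 (i : Nat) : Nat := Nat.land (Nat.shiftRight 0x236c6c8d71aa34c688cf19a32c648c718a30c608bf17a2ec5c89312223c438851062043f87d0de1b4358630c217c2584908e2dc5a8b307e0f41d8b115e2b4558a914e1ec3c8770ea1cc388a51462840480700a27c4e89b0ba16c2c8570aa14bef7dcfb62644b89508a10c2088d1162241c83706a0cc1882f05a0ac1482704a08bce79af3206c0c816f15e23c380f01a02c348670c9de3bb774ff9febfc7f6fe9fcbaa752ea1fabf47e6fc9f8bf085109e133a4746e89f4be87cef99f2be4736e69ccb9872ee59c1b82702f69ecbd86fadf1bdb7a6f2de1e8bd079f04207c0e6d6da9b4b686ced9a05409810d7daf35d77eef9dec01800ffddcbb876eed9dabb46b2d61abb4d698d2da3b4668afe1fbbf667ccf59e3ec7d6fa9d0ba073ee79ceb9c7c6f89f0be07bef7994b2864ee49c8b90646c8990b2063ec7997b2e65ac5189b127baf71edb2664ac91ebbd67aaf51e9bd2610c1d83305608c0d81301600db9b6b6c796f29e4bc878ef19782ef5dcd89b0b60784f05e035c6b6d69d9bb2762b796eadc5b0b5d6b2d55a8b4dd83af75cb4968ad075aeb1d5b44686d09a0b4067ee9d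d33a556ead95ab3866ecd958ab055eab956aac712e21c3aa2542a81cab94726e01bfb7e71ee39c6b8c716e294b295528a4d49291520a3d4738670ae114fa9e53aa714da9a532a614bb776ecdd5ba3736e4dc5b836f4de9b936afc5f6be97caf85eebd97aaf45e6bc978b656c8d8d76aec5d6ba974ae85ceb9972a544a694928a5049ed59aab5449692924b536a4d45a834f69cd29a4b4849091d232cc596b2964ac858eb1962ac4586b0960ac057eaf95eabc5768a914a28676ce99cab4566ac99ab34666cc998b3043c8750e21b4348650c21742ccb195b2a622c4187b0e61ac3185b0a612c758e31b634c658c31762cc54fb9f63eaa2944a8841e83906a0c41682940a804fe7acf51e940680900a003fe7f93aa744e69c938a705febf97ea6c4d69a934a684ce764ec1d74c698930a604be978e99d23a29692ca58394724e42e45c6b8970ae05be93926a4c5b6b696cacf59cb3522a44486704e01bf37c6f4de23c4768e91ca3846e8d91aa343526a0d3a3045e8b8d19a2342ae95cab844e89912a2444688910a2043eaad552a9550a9d532a5548a8cc298430684908a1050ea1942a84506a08cb99632a5e4bc1774f69e93ca784ee9d8fe9fc3f67e8fc9f851aa314596d2d85acbf97e2fa5f0bd97a4fc9f53e1642c6588b99722e2788f09e02bc574ae1dc3b67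69332654c8560ab9564ba9712d9552a854ce69cc39695d2b25538e718e29c4386709212414808fd1f23d2804fc9f14628a510a19422824dc9b13535e6b8d69312604bd19a324624ac9512945a8b1159a033e678ce99c336668cc9984128210391f23c474c899031e638c698c316628c498830e6190aa1442644c891113e27c0f79ee3da7b103205408428849083ca790f19702de5b8fa1f33e44108190221a430859e83ce7987f0fd1f877cef1dd1f03dc7b1d63aa750e81cf39c548a895029e538a694c296528700df1bc6e0db9b636a6d0d99bb3746e46b8d61aa3686c8d83646c4d80ce19a330d61ab3544b89692c34c694d20c818e318929242464889092032864cc90bf17c2f48c91822e4588a914304604c00b91702dcb39662ca5d8ba9741662c85896a2d25a0568ac156584b015f1602bc5715b2b45647a8f41e63c8788f01de3b8768ec1d63a84f09d138398728e41c63887094929051c4a8941264e89c93827a4f09d88c1162284788e11a4d0999321963286492824e49841882102308608c023846c8d07d0f81ec8810f21c1dc3b07520e418828fb1f43e4809001fe1d03987214e2985286e0da1b0508a013e3a4740e70d019c3309812e2586e8dc1b617c2f05d1a2340678d41a63482e05b0b42184288418a310618530a41445e0bb1741e83c87816c2d45a0aa1522a02684c096290518a208e1182289b1342641f03d078188308601242444808911021c1c03706c1582a8541001fc3f05009e138388700de128248480d61a83482905009c2084007e194320630760e81c8590b015c1a8340660c81883005e0b81682c0560a822043084098128240460881082003e0780e81c0360680c81802e0580a8140260480580a0120380680c0220400780500800c0400700c00800800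 (Nat.mul 11 (Nat.land i 2047))) 2047
end Cfsg.Agent.Lib.Helper6.TCD.O733a
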