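set_option autoImplicit false
namespace Cfsg.Agent.Lib.Helper6.TCD.O733a
noncomputable def P4 (i : Nat) : Nat := Nat.land (Nat.shiftRight 0x236c6c8d71aa34c688cf19a32c648c718a30c608bf17a2ec5c8b716a2cc588af15a2ac548a714a28c5089f13a26c4c89712a15c2a85311a22c448450861041983105e0840f81d02a04c0880f01a02c348670c9ff3fd7f8fe1fbbf689312223c2884f099f93f17e110e214417ccf95f23dd7b8f6e2043f87cf5deb3d57a8f4de943d8790ede43c778d0ea1cc3886f0da1abb9770eddd83af75d0c61842f75aeb1d5c2e85b0b1fabf47e70961242373ce75ce395728e4df4be87cf07e0f41d71ee39c6b8c716e2a0e41b834f69ecbd882d0560a413825045b8b706def39e6bcc796f29e4c0d81902de2bc4786f09e0bc077eef9deb566aad5202403804ed9dabb46a0d3da7401800ffdfdbfa7f2ea9d4ba874ee99d2b3b674ce5d0ba073efbdf73ed66acd199b32662cc1f63eb7d4e49c8b907c6f89f0be07bef798bb1662ae19c2b84706e09c0b806fedf9beb7c6f6de9bcb786eedd9bab746e6dc9e8bd079edb9b6b6c5e6bc978b686ced99b2b646c6d89b0b605d4ba57435c6b6d6970ae05beef1ddbba6a6d49a8bb3764ec56f2dd5b8d29a4b4868ed19a2b44686d09a0b4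067eaf55e2bb748e8dd133866ecd9cdb9a732e61cbb9654aa9151b2c656ca95bab656aad159ab2562ac157aae55aab18eb1c636c698cb18712e21c3a8a512a2188b1061e9f93ea7c616c2984a754e89cd392714e0c0980b005febf97eafc5f6be9332654c8bd97aaf46d6da9b4a604be9792ea5c4b6d7daf35d5ceb9972ae45c6b89acb586aed35a634b5b6b696ca4e49a93128a5049e9152224359eb3966acc596b2964ac858e8cd19231586b0960a2d4588ad9f33d678ae95cab8652ca193b2664ac9191b22642c818fb1e556aa954aa854ea9997b2e65a84908a1044e89912a0640a81110a2043e7f4fe1fb3f47e4fc21842e85946a8c516c5189b123e87ccf9284506a0904a0840ec3986b0c3d079cf32784ee9d98430760cc15823033c4784f01df3bc77534a684cebe57c2f73ac754ea2f05debb976aec5d6740e79ce4ae9592a9cd39872d6aad45a6b616bad638870ce11c738c715692d15a06ecdd1b947e8f91e9b23626c11ca3846e6b0d59aa58cb15621a634a691602bf57c680cf99e53ea794e9943266494ca9852e62cc518931061cc329051ea390aa14426a8950aa0304604c019a33266140a804fea714da9a2ec5d4ba18e31a6314b295528a4d492912e05bcb728750ca14b51692d07b8f69ec2f25e0bba7b4f49e4b09602be9bd3726d4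d89ad3515b2b4564ec9d83ae98d312613a6748e8a5a4b29612a2534a4548a895049091d2324b494924a494828e530a594a4849052013d2784ecda9b43668f11da3a2684cc9923646a8d0d49a834e8c117a2e346688d0a2a4528a09412724c83105a0a32e658caa244468888e11b234800ff9fe43c8750e21b4348648b11522883d0720d22043c87122242480f59ea3d280d0120120e418829f73ec7d4899122227c4f81ef2024007f90a212420f29e43c6578ae95c3b876ced1582ae558aa9542a6728e49c81d23a0739be37a6f0e09c037e3746e0db1c6388708e01be378dc1b736c350698d226e4d89a9af35c6b49893025e4b89692c2564a89499d33866c628c41865f0bd97a23e4788e99132063c5e0bb174614c21832da5b0b597f2fc5f45b0b5168590b19622e65c8b88b91702dcb39662ca2cc590b11f63e87c8f81ee3d87a8f41e63c8788f01de3b8768ec1d63a8a794e29a26c4d099286508a094027e4f8a31452882484889012a2504993a2724e0688d019e338668cc196328648c818e318929242462003f87e17e2f85e91923045c821032044348610b1fc3f47e07a0f21e03b8760ea2a8548a814e298528a4146288508a013e2784e89c1cc394720650c818c6b8d61aa3686c8d80c41843005f0bc1744488810e21842884106208408c21823003e87c0f62c0578ae15a2b05585009e138388700de128248480d61a8348680ce1984c09712c23c4708d11822c4503b0740e42c8580ae1582a8540a6148288740e61c8190310601b83686c0580ac150440861082084007e0f81e83c0b816c2d0230440841a8340661342604b05e0b81684708c1140b81602a098128240700dc1b02003e0780881001e0680c8180520a0138140260480e81c0360380680c0160280480800e0180100100001402003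 (Nat.mul 11 (Nat.land i 2047))) 2047
end Cfsg.Agent.Lib.Helper6.TCD.O733a
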