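set_option autoImplicit false
namespace Cfsg.Agent.Lib.Helper6.TCD.O733a
noncomputable def P5 (i : Nat) : Nat := Nat.land (Nat.shiftRight 0x236c6c8d71aa34c688cf19a32c648c718a30c608bf17a2ec5c8b716a2cc588af15a2ac548a714a28c5089f13a26c4c89712a24c4888f11a22c4488710a20c4087f0fa1ec3c8770ea1cc3886f0da1ac348670ca18c3085f0ba16c2c7eafd1f9c2884f09a12c24846fa5f43e783f07a0ec1c837069ed3d97b105a0ac1482704a08bcb794f2606c0c816f09e0bc077eef9dec0480700a00c007feed9dabb47f6fe9fcba774ce9615c2a852e85d039f7defb9f6bec7d6faa11421840e49c8b907c6f89f0be07bef79c33857090660c4176eedd9bab746e6dc9e8bd079edadb536982103e073656c8d8dafb5e6bb02a04c0880f01a02bbc776ee9ae35b6b4ff9febfc766ec9d8b536a4d45a5349690cf99eb3c7f0fddfb3a4746e89f93f17e0ce19bb36736e69ccb9872ee599632b654f99f2be463ac718db1a632c61c4b8870ef75ee3db628c4d8930e61ac318430760cc15823037aef59eabd47a6f497fafe5fabe57c2f779cf35e62f05debb9e43c778cbb5762eb78af11e1bb9770eddacb586aeb9171ae2760ebdd72db5b4b656c2d75aceb5d63ab5a4b45682c658ab11602bf57cea9d4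ba8574ae55c39e73ae7155aaa552aa153aa665ecb996b95728e4d512a1540a714da9a52ca554a293524a45c7b8e71ae31c5b8a51aa3145b83704e0543a8650ae01bfb7e4f69e93cb7d6f8dedbd3796f09bd3726d6e2dc1b7a6c4d69a9b736d6d898d312615e6bc978b686ced99b13616c0ba974ae84b49652c3566aad512ba564aa95129a526a0d3da734d698d2d25a4a492d1da33454849052023c4768e91b235468d11a1b424608bd17341680cfd5eabc576ced9d3394548a5142244468890f21d43886d0d21966acd199b32662cc10aa14426ca59432741e83906b2664ac9101a02402c8d91321640c7d8f1f73ec7d58bb1662aa2944a88622c41879f13e07bd40a804fe9f93ea7c616c29849e53c878d3aa744e69c938a70604c05802fc5f6be8ee1db3b499932a645ecbd57a2604be9792ea5c4b6b9d732e55c2b816fade5bab70e51c9390734e61cb5aab51699c13806fd22a44486b3d672cd3706dcdb2cc596b28d79ae35ab25642c74668c918ac3584b0516a2c456add5b2b533a670cdab4566ac8c899031eac5582af55cab55618530860d52aa4546680cf99e53ea794e97f2fc5f4cb99632a650c9992532a614b9732e45c4c598a312620c3986520a3d471f43e67c94228350459cb31653d67a8f49e83ce7993c2774ec788f09e03be778eea694d099cec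9d83ae758ea9d43a6748e89d039e7392724d4989452824f29e538a69522a25412424748c518a29443766e8dca3f47c8f49d1392706c8d89b04728e11b9ac3566a8d49a834e698d29a4346688d0a1242284113a2644a4949212341282103a0640a81110a2043e4648c1173fa7f0fd9fa3f27e10c21742c4a09392641882d0510d21842c8f91e23a4708d91a4007fcff11622a450b696c2d65a8b49683dc7b4f61642c6588b09602be578ae95c2b6568ac9582ae558aa9542a6710e19c238e718e28e61ca390748e81ce6f8de9bc1b43646c14027e4f89e93c2766d4da1b326e4d89a9342664c89893025e4b89692c2564a894982302600cd199330308608c02f25e0bb9762ea5d0c718d3185c0b796e19031c630c518830cbe17b2f42fc5f0bd1782ec5d104206408809001fe3f87e8fc1f63e87c8f81ee3d87a8f41e63c8788f01de3b8768ec1d63a8a494828e530a594a13025c4b09e13a2704d89a13250ca11411ae3586a8d41a6348688d019e338668cc196328649132244448810f21c488909202144248410720c414418821022003f87e0fa1f03d8b015e2b8568ac1562a8548a814e298528a4146288508a013e3806f8de1ba3706d8e31c4384340670cc1943206311e2384688c1162284488810e218428841722e05b8b616a2d0598b21621582a8540a6148288740e61c8388700de1b83686c0d61a83489512824c490911201042003f07c0f41e05c0b61682c8580ae1e83c8780ee1d83a8350680cc2684c0960bc1702d08e11822844086108310610c017c2f05d04c0941203806e0d82804f09c0800f81e0941242401a0320601482804e0ec1d03902804c090320620c00e81c0360b01582a01c034060230440840400700c05c0b01500a0100181102003c0580a01200800800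 (Nat.mul 11 (Nat.land i 2047))) 2047
end Cfsg.Agent.Lib.Helper6.TCD.O733a
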