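set_option autoImplicit false
namespace Cfsg.Agent.Lib.Helper6.TCD.O733a
noncomputable def P6 (i : Nat) : Nat := Nat.land (Nat.shiftRight 0x233c668cb17a2ec5c8db1b235c5f8c318231c628c91aa34c688b716a2cc4d89f13a234458890d219c328af15a2c44c89712a24c4888f1562a45385f0c61841f83d0761ec3c87706a0e41b80900e014528a3142214418870ba16c2c8570aa14c2884f09a12c24846ff1ff3fd8810fe1f4398710e9f33e57c905a0ac147a2f41e7c1081f039fcbfb7f4f6deebdc772ee1dbc3786d0d600c007ff0861042281902e06bf87eefd9fabf47e6fc9f8bf07defb9f6bec7d6fa9da3b676b0660c417736e69ccb89710e1e04c08814e49c8b907aef59eab716e0dbe09c12822f39e6bcc796f29e4bab75aeb1c0b83704e11c33856b8d6dad3bc776eea03c0680afa1f3be9766ec9d8bb075eeb9e3bc6790ea9d4ba874ee99d2ba4746e89d0ba073ee79ceb9c7c6f89f0b2f65ccb5cab94726f69ecbd866acd199b1762cc55f03df7bcf05e03c2788f0de2b0b614c25beb7c6f6c0980b006eedd9baaff5fcbf5ea3d37a4d09a23436d6da9b4b4568ed19a434a692be97e2fb624c5189bbf77cef5acb586aed59aab546a6d49a8b5069ed39a6b4c696d91b1b656ced99b436d6d8db964ac858ec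f99eb3c676ce99cb3866ecd9c7b8e71aa95522a3730e5dcb32c656ca994b2864ea654c297562ac157a9051ea3955aaa552a354628b718e2dc535e6bad7d422835049ed3d279700dfdbf30860ec1937a6e4dade9bcb786e8dcdb93616c0d89622c658ab29662cb5e6bc978ad05a4b453526c4d6a21452894d29a133ae45c6b8970ae05beb796eadc5b6b696cad85aeb596aad45a6bbd772f047e8f91eaf55e8bd9a0b4067ebe17baf94728e11ba3646a8d15eabc576ae95cab856ead95aa2144087d91b226428610ba1663ac718da1542884d99331660a8950aa041882d05203404805933256488790ea1c3ee7d8fab2063ec798d319630ba5742ea3e27c0f7b11620c3d40a804fe7a0f39e661cc35862784ee9d93aa744e6788f09e060ac1181aec5d6bb573ae65ca8c519a324748f11da4348a910ee9df3bc770ed9da4ae9592aa544a694928a5049e93926a4c496929249be37a6f12fa5e4c06e0db9b659eb3966a624c298d61ac2582b015fabe4ca991331af35c6b4d61ab3548a914a28334664cc19132063d5a2b3564a594aa9430a610c1aae55aab1542a754c84908a102fe5f8bea9f53ca7504a0840e5d8ba974538a6d4d2003fe7f8c598a3125c0b796e526a494896a2d25a143a8650a7b8f69ec2c858cb127e4fa9f0f29e43c69c938a704b896d2ea5a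4b2960d39a93506c0d91b12b8578ae95b2b4564e69cc396728e49c829852ca51c4386708a314528892123a4627a4f09da42482900da9b4366754ea1d64608bd1722d4588acec1d73b24d0999322624c0979a033e6789292424689d1322532e658ca91c23646912223444638c698c3fa7f0fd91622a4510da1a4324408790e41e8390697c2f65e88510921081902a042e65c8b89fa3f27e0821032047d0f99f22ce598b29eb3d47a4b09602be748e89d33a073ce713526e4d87c0f71ec548a89501cc394721c738c7146e8dc1b6704e01bf286508a08d71ac354dd9ba3724e89c9382ae558ac1a634a690d19a23424b89692c19c334660c518830cce99c3364889092017e2f85e9943266488c91822e620c39861722e05b9823026008690c2165e4bc17720e4188296d2d85ac809001fe3f87e8fc1f63e87c9552a854c538a614a3b4778ee1e23c0790ec1d63a84d89a13253ca714d1c63887089512824ca494828e3686c8d82804fc9f0d41a6348688d019e4ac9512910c214420831042049412724c308608c023e4788e8bc1762e8899122222d85a8b41662c8588b015e2b8568ac1561c43806f1ea3d0798a4146288508a013e1a0338661d23a07389812e258700df1bc2484889011e2384688c1162282c8580ae32c650c919031c630800fe1f83e87c0f61e83c8780ee1d83a84d09812c550a91501b83686c08810c2109e13a270328640c6188308600be1782e83806e0d84488810e1582a8540a6148288320620c03a0730e4128248480520a01386b0d41a42084007e0f81e83c0460881085c0b61681001f03c1402784e05e0b81681702c0542384608a050098120760e81c8350680cc0e81c0360380680c0580ac1502604a0900881001e0680c8180160280480800e0180280400600800800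 (Nat.mul 11 (Nat.land i 2047))) 2047
end Cfsg.Agent.Lib.Helper6.TCD.O733a
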