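set_option autoImplicit false
namespace Cfsg.Agent.Lib.Helper6.TCD.O733a
noncomputable def P7 (i : Nat) : Nat := Nat.land (Nat.shiftRight 0x2354698d11b63646b8bf1863045e8bb172334658cf19231c628a114a28c4c89712a2ac548a716a2cc5b89f13a26c588af15a1ac3786d0a213c2684b09211c4087f0fa06c0c8170b61642e89111e24c348670ca18c3085f0e21d43980b01e0344688b11221c42882fc9f8bf07defb9f6c1c83706a0cc1882ef45e83cf82704a08bc878ef1a1ec3c876fddfb3f88550a615c0480700a00c007feff9febfc7f6fe9fcc08815025debbf77d08a10c2083f07a0ebec7d6fa9d0ba073ee79ceb9c712e21c3b9872ee59eebdc7b6f69ecbd86e2dc1b7bd47a6f4a0b415828da1b3b666cad91b1c1081f039d4ba8754e99d2ba77e8fcdfabbc776ee9dcbb876eed9dabb4766ec9d8bb075eeb9d6bac756f0de2bc4780f09e0ba4746e89f4be87cef99f2be465ecb996be07bef79cab94726ce19bb3662ec598ab32662cc1f1be27c2e19c2b84706e09c0b806fedf981301600de9bcb785febf97eb746e6dc9ebbd67aabd97aaf45e0bbd773ce79af31e5bca792d019fb4167acf19f35c6b6d69acb586aed59aab546a6d49a8b5069ed39a6b4c696d29a4b4868ed19a2ac3584b0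5b03626c2d75afb5e676ce99cb92722e4152aa4546e31c5b8a736e69ccb2c656ca994b2864ec9992b24520a3d472ae55aab146a8c516aa153aa671ee39c6b14626c4988b1061ec3986b0c4f09dd3b26f4dc9b582b04606df5be37b6eedd9baa694d099d31a624c2db9b6b6c4c097d2f36b6d4da55fabe580af15dabd58eb25642e45c6b8970ae05beb796eadc5b6b696cad85aeb596aad45a6b4968ad059eb3966a394708dd732e55ce8c117a2e688d0da12eb5dabb1742ea5d2ae95cab856ead95aab4566ac90c21742cc818fb1e42a85109b1a632c619ab34666a8950aa053ea794ea9c536a69001ff3fc7dcfb1f54368690cb23644c858eb1c636a2944a8850ea19429ee3da7b140a804fe9f93ea7c3ca790f1b0b614c24f11e13c09c938a70610c1d831dc3b67697e2fb5f4758ea9d45f2be17baf35e4bc51622b45a8d11b2354ae9592aa544a694928a5049e93926a4c49692924a4848e91922a4448690920a4036a6d0d99af35c6b5662cb5949652c25a34c694d22c658ab112da5d4b88a914a2844e89912a24446888c718d318614c2183526a4948ab1560abd55aaa55284908a1041e8390697c2f65e904a0840e81902a042e65c8b8a99530a5cb816f2dc620c398652ca554a1f43e67c8b39662caa1141a823d67a8f49612c057d3da7a4f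29d53a2732b6568aca6c4d69a8ac1572ac99932a64344684d19aa3586ace69cc396728e49c838e718e29c4386708e09c037e50ca11413766e8dc93a2724e11fa3e47a4d0999324788ed1d1cf39c7409592a2528cd192313a274ce91a033e678ce99c3364889092032e658ca9943266488c91822e8851021f22c4548a1fa3f27e10f21d438608c098021a43085a0c416828bc9782ee41c83105406809009fd3f87ecb696c2d6404800ff3e27c0f78fe1fa3f0f41e73cc3e07b8f63be778ee9d93b075c97931260548a895029e538a68e31c4384a494828e3686c8d837c6f4de14027e4f86a0d31a46e0db9b619c334661b23626c0aa1532aa32c650c93526a0d392824e498610c1180668cc99823e4788e8bc1762e8c899031e62cc5189226448888b616a2d0bf97e2fa2cc590b12ec5d4ba0ad1582acb51692d0590b19621542a45415e2ba570750ec1d63c8788f01422804f8f41e63d4748e81ce2604b89629852ca50e01be37849091120518a294411822c4513d2784ec4488810e4dc9b13525c4b4960c818e3184007f0fc494921230fa1f03d91c2364683b8760ea4408790e214424840740e61c8821032043ec7d0f914e2985286b0d41a4778ee1da2784e89c0ca190318e61ca3902f85e0ba3746e0db0b816c2d0d71ac354688d019e218428840a6148288c518830c5f8be17a1402784e1722e05b8b015e2b8388700de11c2304514828c5103e07a0f04d89a1320ec1d03912a2504988f11c2342c8580ae0d41a0331062084087a0f21e02684c0960b01582a0dc1b436044086108130250481a0338660c41843003806e0d82b0550a80c8188300340640c04a0921201482804e1042003f0460881082003e0780e81c0360bc1702d02e0580a8140260480881001e0380680c0160280480800e0180280400600800800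 (Nat.mul 11 (Nat.land i 2047))) 2047
end Cfsg.Agent.Lib.Helper6.TCD.O733a
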