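set_option autoImplicit false
namespace Cfsg.Agent.Lib.Helper6.TCD.O733a
noncomputable def P8 (i : Nat) : Nat := Nat.land (Nat.shiftRight 0x235c6d8d91a2354698cb19e334628c918e2fc618c11722f45d8b316e2d4568b115e29c558a91422945189b13e2744a89912e23c498911122344588310e2143e8810fe1dc3d8790e21d43986b0de1b4328690ce17c318610b21742d8530ae1542685109e11c258490821142183b07e0f41a83906e0bc198310520b41582304e0940e82103e05c0d8190220540980b01e0340280900dffc01800ff1ff3fd7f2fedfd3f67f0fddf9bf57e8fc1f93f17dafbdf73ea7d8fadf3be97d0f91f33e57c2f8df13de7c0f7dedbdd7b8f61ed3d97aaf5deb3d27a8f4de7bd17a0f31e73cd792f2de53c6790f1de1bc5788f01e13c177aefddf3ba778eeddbbb9770ed1db3b5762ecdd93ae760ebdd5bad758ea1d53a974ae9dd33a2748e8dcfba1740e71cf39d732e6dcd396730e5dc9b95728e41c939171ae3dc738a718e2dc3b89710e11c3385702e0dc137e700dfdbdb7d6f8de1bd3796eadddbb3726e8dcdb7b716e0db1b736d6d2dadb53666d0d9db1b656c8d81b13616bad7daf35a6b8d6dabb596b0d51ab3556a2d4da934e6a0d3da5b4d698d21a534968ad1da3342688d0d9fb41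680cf19f33d672ced9d336670cdd99b35668cc19933165acbd9732a658cad93b29650c9193325642c8d9131e640c7d8db1d638c618d31962ac5d8b312628c4d87b11620c318730d612c2d85306610c1d81b05608c01813015fabfd7f2fa5f8bed7baf95f0bd17b2f55e2bcd792ee5e0bbd75aed5d8ba1752e95cab9d732e25c8b8d6fae15c0b716f2dd5b2b6d6d2d65b0b5d69ad55a8b41692d159ab3d672ca598b2d63ac9590b11632c5582b0d612be580afd5dabd578ae15d2b956aadd5b2b2568acd57ab1560ab1572ad552aad552a6550a9d51aa5548a81512a153aa7d4f29a538a6d4ba99530a514b295522a4d4928e520a3d45a8d518a214528950aa1d43282508a0d3fa815009f13f27d4f29ed3d2764f09dd39a754e89c1392714da9bd3726a4d89ad33a694d0991332654c298d3125e4c097d2da5d4b89612d2594aa95d2b2524a894d27a514a09312724d49292d2524649091d21a454889012124147a8fd1f23a4788ed1ba394708d11b2354628cd1922e4608bd15a2d4588a11522944a89d1322244888d0fa214408710f21d43286d0d21643085d09a154288410921141a83d0720a41882d03a094108110320540280d011fe4007fcfd9fd3f87e0fd1f93ea7dcfb1f23e87ccf79f13e07b0f71ed3d27acf51e63d079cf19e53c8780f11e13ba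77cef1da3b876ceb9d93b0750eb1d53a274ce91ce3a073ce59cd398720e51c938a71ce31c238870cdf9c13806f0df1bd3726ecdd1b63706dcd99b53686c0d91b135a6bcd71aa3586acd39a9350690d31a534268cd119e34067ccd99d338660cd19932a65ccb19232864cc7991320630c718d31262cc518631061cc1985308600c11812fa5fcbf17a2f85ecbb9792f05d0bb1752e25ccb916e2e05bcb596d2d85a0b51692ca59cb31622c858caf9612c0570af15d2b256cad1562b055ca99552a8540a915129a53ca714a29852ca3949290510a314528250ca113e2804fc9d93d2784e09d13926a4dc9b1322684cc979312604b09712d2524ac9512625049c919252484809112123a47c8f11a23846c8b9192304508b11522244c8910e22043c8590d2184208510920a41c8310220840c7f9012003f07f0fd1f23ec7d0f61f03dc798f51e83c0790f11da3bc770ea1d83ac738e91d0390730e51c238c710de1c037c6d8dd1b83606d0d91aa35c6b0d21a834c678d11a0330670cd19232c650c619031c618c5188300610c117a2fc5f0ba1782ec5b8b91702d05b0b51622cc590ae1602bc558ad1582a0550a914a29c530a214828c4f8a11402704f09d13226c4d09613025c498951282404909111a23c4708a11822c438891102104308510220c4107e1001fc3d87d0f81e03d0790ea1dc3b0720e81cc378710e01b03706d0d21ac350660d019c318650c8180310610ba17c2f05a0b816c2b8590b01502b0550a214c2904e0a013c2584d0981202504908a11c2304208810c1f8410800f01f03d0720ec1d0360700dc198350680c01903105a0bc1702a0580ac138290500901302504208c1101e04007c0d81d0380600d01902a05c0b01202804c078110200300700d01202c0500601001c0180500800001001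 (Nat.mul 11 (Nat.land i 2047))) 2047
end Cfsg.Agent.Lib.Helper6.TCD.O733a
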