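set_option autoImplicit false
namespace Cfsg.Agent.Lib.Helper6.TCD.O733a
noncomputable def P0 (i : Nat) : Nat := Nat.land (Nat.shiftRight 0x2354698d11b63646b8bd1762e45f8c318231c628c919e3346589912e254508a51462ac548a715e2b4588690ce1945b8b516612c2484711a22c4486b0de1b44087f0fa16c2c85d0360640b88510621c4f89d136024038050ee1ec3c7e4fc5f842884f09a24c4888f01603c0683f07a0ebfb7f4fe60cc1882f05a0ac1482704a08bf77ecfe21d439870f21e3bc6843082114318610bdde3bb774ee5dc3b783906e0d40e82103dd0ba073f0ae154297defb9f6bb3764ec5debbf77cf99f2be47c6f89f0be07bef79d6bac756f69ecbd87aef59eabd47a6f49e8bd079eea5d43aa74ce95d3c0a813021b43676ccd95b23637d0f9df4c01800ffdff3fd7f8d71adb5a7d8fadf53566aad51eebdc7b6f31e73cd792f2de53596b0d5dfabf47e6e79ceb9c736e69ccb9872ee59a834f69ce49c8b9071ee39c6b8c716e29c4b8870ed29a4b4868ed19a2b806fedf9beb7c6f6de9bcb786eedd9bab746e6dc9b8b706ded019fb4167acf19f3c5788f0de13c1780bd97aaf45e0bbd773b676aed1d23a3744ec1d7bae5c8b8d71395728e4d6f2dd5b8e19c2b84706e09c0ac7592b21b636e6dada5b5b6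a5c2b816fb3866ecd99ab34666cc998b3065ecb996adb5b4b656aad45a6c9992b24646c8990b2063ec798eb1c636c698cb1862ec598aad25a2b4167ace59ac3986b0c616c2984b0860ec1982b04606c0980b005febf97eacc596b295fabe580d89b0b60578aed5eb5f6bcd7531a624c29812fa5e586b0960b536a4d459db3a672d35a634b658cad952544a694994b2864ec5189b12622c4187afc5f6be9a1b426888d11b2355ceb9972af75f2be178af35e495d2b2554a294127ab4566ac958ab055eab956aac556aa954aa854ea9952aa454692d2524949091d2329c536a694ca9852ea594aa94526a4948a9051ea3946a8c516915222434849052023f47c8f540a804fe9f93ea7c4f69e93ca784ee9d93aa744e69c938a704de9b936a3c4768e91ca3846e8b115a2d5dabb175aea5d2ba0eb1d53a88c117a2e574ae55c2d85aeb595bab656a734e61cb544a855029f53ca7545289510a1d43285508a0d4126c4d69a934a684ceb15622c63546b0d5a5a4b2961322664ca728e49c838e718e2a2444688910a2043e8790ea1c4368690ca1842e8590aa14426710e19c2382700df9be37a6f104a0840e81902a0440680900a003fe7f8fe9fc3f67e8fc9f83ee7d8fa9bb3746e4dc1b736c6d4da1b33d67a8f49e83ce798f29e43c6788f09e03646c4d81af35c6b4d11a13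469752e25b2b055cab1a634a6912724d4988a914a2844e89912a1242284107a0e41a83105a0a3e87ccf91f13e07bcf71ed3d877cef1dd3b876ced2324628cc97931260740e79ce3ae764ec1522a2540a794e29a530a594a32e658ca994326648c899031e638c698c316628c498830e618c2984306524a414728c514a2143284504bc9782ee5d8ba9742e65c8b89702de5b8a013f27c4f49e13b2744e49c1642c6588b09602be4dc9b1352684cc991d33a47449592a252680cf99e33a670cd99a332660c11813005fcbf17d2f85ecbd16d2d85acb51692d059cb31652bc574ae15b2b4564d41a73523a8760eb2aa550a98e91d039c730e51c838c710e123e4788e91c2364688c91822e4588a9141c037c6f0dd1b836c6d0d91b04288490820e418828d71ac3546a0d31a43f87e8fc1a2340678ce19a330658ca1923c8788f01de3b87692d2584b89412724c49492123244484901132244448810f21c4348610b20840c811012003fc7d8fa1f23e07b8f61ea3d07989e13a2704d89a1322604b89617e2f85e8bc1762e84a894126248488901662c85888f11c2344608b1142244408710c214420a4146288508a013e320638c618a310618c21823005c8b816e2d85a8b41602bc570ad1582ac550a915029c530a50d019c330650c818c3e87c0f6188308600be1782e85c0b61682c8580ae1b83686c0d61a8348831042044007f0fc1e83c8780ee1d83a8740e61c8388700de1042003f07c0f41e03b0740e41c03706c1282484808e118228440861082b0550a814c290510a013c2704d09812c1302504808c1102105e0b81682c0560a81482804e0d41a0330640c4180140260480e81c0360680c81802e0580a82003e0780881001e0380680c0160280480800e0180280400600800800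 (Nat.mul 11 (Nat.land i 2047))) 2047
end Cfsg.Agent.Lib.Helper6.TCD.O733a
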