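set_option autoImplicit false
namespace Cfsg.Agent.Lib.Helper6.TCD.O733a
noncomputable def P9 (i : Nat) : Nat := Nat.land (Nat.shiftRight 0x23646b8db1a63446a8cd19633c638c51923045f8c31762e45e8b51662dc578ad1622a4538ab1462845289d13627c4b895132244478931162244688510621c3f87d1021e43b87b0e61c43a86d0d61bc338650d21842f8630b61642e8550a615c2784d0a21242384b0861042283d0760fc1b8350720c4178330560a41682504609c0f81d0420640b81b0260440a80d01603c03805012003ff802ff5fe3fe7f4fe5fdbf77ecfe1fa3f37eafc5f83f27dcfb5f7beb7d4fb1f43e77d2f95f23e67c4f85f1bdf7bcf81ee3db7baf65ec3da7acf55ebbd37a4f51e83cf7a2f35e63ce794f25e5bc778cf21e23c378af05e03c277cef5dfbbb774ef1dc3b7772ed5da3b6764ec5d9baf75cec1d63ab75aea5d43aa74ce95d3ba3744e91d039f742e75ce39e734e65cdb9772ce61ca39372ae45c839271ce35c7b8b714e31c4387712e15c2386704e05c1b7f6fce01be37b6fade5bc37a6ecdd5bbb736e4dd1b836f6e2db5b636e6d4da5b5b676ccda1b23636cad85b03626bcd75afb5b6b4d71ac3576b2d55aa3566a4d45a9b4f69cd41a634b69ad25a434a68cd15a3b43684d11a033f682cf59e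33e674ce59db3766cce19a33366acc59833265ccb597b2b654cb194327652c9592326644c8591b1f63cc818e31b63ac658c31a62cc558bb13624c518830f622c358630e614c2585b0760cc218230360ac05803025fcbf57fafb5f4bf17c2f75f2bd57a2f65e4bc579aef5dcbc1762eb5daba5742ea5ccb9573ae35c4b91702df5c2b756e2de5b4b656dad75acb616a2d35aab45682d259cb3567acb594b31642c7592b15622c6584b0561abf57cb015e2bb57aae55c2ba56cad55bab3564ad1582af562ab5562ae554aa555aa754caa1522a354aa85502a253ca754fa9b534a714c297532a554a296524a4549a8f51ca414628b51aa254428a50ca1543a83504a114027f5029f53e27e4f49e53da774ec9e13a2734ea9c5382724dc9b537a6b4d49b1342674d2995322664c498531a5f4bc9812e25b4ba9652c25a4ac9552ba534a49512824f4a29352624e49492525a4748c9212224348a9052024247c8f51fa3b4748f11c2374728d51a2364648c519a2f45c8c11622b45a8a51422a44c89513a234448911021f4428750e21e4348650da1742c8610a21342a8450821241c83507a0b4148310420741281502206404805019ff3fc800fe1fb3fa7e4fc1fa3ec7d4fb9f33e47d0f81ef3e27b4f61ee3d47a4f59e73cc7a0f21e33ca784f01e23bc774ef9db3b4770ec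1d73b2754ea1d63a4744e99cf39c740e61cb39a724e41ca38c714e39c3384710e01bf3826f4de1be3746e4dd9b736c6e0da1b336a6c4d81b235c6b4d79ab3546b0d41a7352694d21a6344684d199f33c680ce19b33a664cc19a32c654cb993324650c818f322634c618e314624c598730c620c218330a604c01822fc5f4bf97b2f45f0bc1772f25d4ba1762e45c4b996f2dc5c0b616b2da5a4b416a2cc594b39632c4590b015f2c2574ae15e2b4564ad9572ac560aa1532aa544a815229c534a794b294530a4147292514a2146284504a193f27c5009e13b27a4e49c13a26c4d49b9332644d09812f2624b49612e2544a49592724c4a09212324a4849012223c4748f91b2344708c1172324548a1162244448990f21c4408610b21a4248410a20c41483903204410800ff2023f47e0fe1f43e47d8f71ec3e07a0f31ea3c4780f21dc3b4778eb1d43b0740e71d2394720e61c4384718df1bc3806e0db1ba3646c0da1ac3546b8d31a4350680cf1a2334660ce194324658c718c320620c318a304600c217c2f45f8bb1742f05c0b71722d45a0b61642c4598af15c2c0560ab15a2a4540aa14c294538a31442905009f1422744e09e1342644d89712c2604a09312a2444809211c2344788b11423044087112214420861042044187f0fc2003e07b0fa1e43c07a0ec1d43b8730e41d03806f0e21b43606e0d41a4358670cc1a0320630ca184300620bc1742f85b0b41702c0570b21542a0560a41442984f09c1402604b09a1242404a08c114238430841102003f0820f41e03e0740e41d83706c0e01a03306a0c41803205c0b41782b0540b014027052094120260440841181f03c0800e01b03a0640c01a02c0540b8130240500800f0220340600e0140240580700c0200200300a00400002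 (Nat.mul 11 (Nat.land i 2047))) 2047
end Cfsg.Agent.Lib.Helper6.TCD.O733a
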